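import Mathlib

/-! S4003 (number of elements of order `p^s m`): definitions (helper95). -/

set_option autoImplicit false

namespace Cfsg.Agent.Lib.Helper95.EO

/-- commuting pairs `(x, y)` with `x` of order `a` and `y` of order `b`. -/
def XY (G : Type*) [Group G] (a b : ℕ) : Set (G × G) :=
  {z | orderOf z.1 = a ∧ orderOf z.2 = b ∧ Commute z.1 z.2}

/-- pairs `(C, y)`: `C` a cyclic subgroup of order `a`, `y` of order `b` centralizing `C`. -/
def CY (G : Type*) [Group G] (a b : ℕ) : Set (Subgroup G × G) :=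
  {z | IsCyclic z.1 ∧ Nat.card z.1 = a ∧ orderOf z.2 = b ∧ ∀ c ∈ z.1, Commute c z.2}

/-- the cyclic subgroups of order `a` inside `Q`. -/
def Cyc {G : Type*} [Group G] (Q : Subgroup G) (a : ℕ) : Set (Subgroup G) :=
  {C | C ≤ Q ∧ IsCyclic C ∧ Nat.card C = a}

end Cfsg.Agent.Lib.Helper95.EO
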