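import Mathlib
import Cfsg.Agent.Lib.Helper95.P1Q5
import Cfsg.Agent.Lib.Helper95.EO.Defs

/-! S4003, pieces A0 A (helper95). -/

set_option autoImplicit false
set_option linter.unusedSectionVars false

namespace Cfsg.Agent.Lib.Helper95.EO

open Subgroup Cfsg.Agent.Lib.Helper95.P1
open scoped Pointwise

theorem card_modEq_fixed {p : ℕ} [Fact p.Prime] {Γ Z : Type*} [Group Γ] [Finite Γ]
    (hΓ : IsPGroup p Γ) [MulAction Γ Z] (S : Set Z) [Finite S]
    (hS : ∀ (u : Γ), ∀ z ∈ S, u • z ∈ S) :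
    Nat.card S ≡ Nat.card {z : Z // z ∈ S ∧ ∀ u : Γ, u • z = z} [MOD p] := by
  let T : SubMulAction Γ Z := ⟨S, fun u z hz => hS u z hz⟩
  have : Finite T := (inferInstance : Finite S)
  have h1 := hΓ.card_modEq_card_fixedPoints T
  have h2 : Nat.card T = Nat.card S := rfl
  have h3 : Nat.card (MulAction.fixedPoints Γ T) =
      Nat.card {z : Z // z ∈ S ∧ ∀ u : Γ, u • z = z} :=
    Nat.card_congr
      { toFun := fun t => ⟨t.1.1, t.1.2, fun u => congrArg Subtype.val (t.2 u)⟩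
        invFun := fun z => ⟨⟨z.1, z.2.1⟩, fun u => Subtype.ext (z.2.2 u)⟩
        left_inv := fun t => rfl
        right_inv := fun z => rfl }
  rw [h2, h3] at h1
  exact h1

/-- [A0] two invariant subsets with the same fixed points have the same size mod `p`. -/
theorem card_modEq_of_fixed {p : ℕ} [Fact p.Prime] {Γ Z : Type*} [Group Γ] [Finite Γ]
    (hΓ : IsPGroup p Γ) [MulAction Γ Z] (S S' : Set Z) [Finite S] [Finite S']
    (hS : ∀ (u : Γ), ∀ z ∈ S, u • z ∈ S) (hS' : ∀ (u : Γ), ∀ z ∈ S', u • z ∈ S')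
    (h : ∀ z : Z, (∀ u : Γ, u • z = z) → (z ∈ S ↔ z ∈ S')) :
    Nat.card S ≡ Nat.card S' [MOD p] := by
  have h1 := card_modEq_fixed hΓ S hS
  have h2 := card_modEq_fixed hΓ S' hS'
  have h3 : Nat.card {z : Z // z ∈ S ∧ ∀ u : Γ, u • z = z} =
      Nat.card {z : Z // z ∈ S' ∧ ∀ u : Γ, u • z = z} :=
    Nat.card_congr (Equiv.subtypeEquivRight fun z =>
      ⟨fun hz => ⟨(h z hz.2).mp hz.1, hz.2⟩, fun hz => ⟨(h z hz.2).mpr hz.1, hz.2⟩⟩)
  rw [h3] at h1
  exact h1.trans h2.symm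

variable {G : Type*} [Group G] [Finite G]

theorem isCyclic_smul (g : G) {C : Subgroup G} (hC : IsCyclic C) :
    IsCyclic ↥(MulAut.conj g • C) :=
  isCyclic_of_surjective (Subgroup.equivSMul (MulAut.conj g) C)
    (Subgroup.equivSMul (MulAut.conj g) C).surjective

theorem card_smul (g : G) (C : Subgroup G) : Nat.card ↥(MulAut.conj g • C) = Nat.card C :=
  (Nat.card_congr (Subgroup.equivSMul (MulAut.conj g) C).toEquiv).symm

theorem orderOf_conj' (g y : G) : orderOf (g * y * g⁻¹) = orderOf y :=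
  MulEquiv.orderOf_eq (MulAut.conj g) y

/-- [A] -/
theorem card_CY_modEq (p : ℕ) [Fact p.Prime] (P : Sylow p G) (s m : ℕ) :
    Nat.card (CY G (p ^ s) m) ≡ Nat.card (Cyc (P : Subgroup G) (p ^ s)) *
      Nat.card {y : G // orderOf y = m ∧ y ∈ centralizer ((P : Subgroup G) : Set G)} [MOD p] := by
  letI : MulAction (P : Subgroup G) (Subgroup G × G) :=
    MulAction.compHom _ ((MulAut.conj (G := G)).comp (P : Subgroup G).subtype)
  have hsm : ∀ (u : (P : Subgroup G)) (z : Subgroup G × G),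
      u • z = (MulAut.conj (u : G) • z.1, (u : G) * z.2 * (u : G)⁻¹) := fun u z => rfl
  let S' : Set (Subgroup G × G) := Cyc (P : Subgroup G) (p ^ s) ×ˢ
    {y : G | orderOf y = m ∧ y ∈ centralizer ((P : Subgroup G) : Set G)}
  have hcard : Nat.card S' = Nat.card (Cyc (P : Subgroup G) (p ^ s)) *
      Nat.card {y : G // orderOf y = m ∧ y ∈ centralizer ((P : Subgroup G) : Set G)} := by
    rw [Nat.card_congr (Equiv.Set.prod _ _), Nat.card_prod]
    rfl
  rw [← hcard]
  have hfixy : ∀ (u : (P : Subgroup G)) (y : G), y ∈ centralizer ((P : Subgroup G) : Set G) →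
      (u : G) * y * (u : G)⁻¹ = y := by
    intro u y hy
    rw [mem_centralizer_iff.mp hy u u.2]; simp
  refine card_modEq_of_fixed P.2 (CY G (p ^ s) m) S' ?_ ?_ ?_
  · rintro u ⟨C, y⟩ ⟨hC, hCa, hy, hCy⟩
    rw [hsm]
    refine ⟨isCyclic_smul _ hC, (card_smul _ _).trans hCa, (orderOf_conj' _ _).trans hy, ?_⟩
    intro c hc
    obtain ⟨c₀, hc₀, rfl⟩ := hc
    have h1 : Commute c₀ y := hCy c₀ hc₀
    show Commute ((u : G) * c₀ * (u : G)⁻¹) ((u : G) * y * (u : G)⁻¹)
    exact (h1.conj (u : G))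
  · rintro u ⟨C, y⟩ ⟨⟨hCP, hC, hCa⟩, hy, hyc⟩
    rw [hsm]
    refine ⟨⟨?_, isCyclic_smul _ hC, (card_smul _ _).trans hCa⟩, ?_⟩
    · have h1 : MulAut.conj (u : G) • (P : Subgroup G) = P :=
        (conj_smul_eq_iff _ _).mpr (le_normalizer u.2)
      have h2 : MulAut.conj (u : G) • C ≤ MulAut.conj (u : G) • (P : Subgroup G) :=
        pointwise_smul_le_pointwise_smul_iff.mpr hCP
      rwa [h1] at h2
    · show orderOf ((u : G) * y * (u : G)⁻¹) = m ∧ (u : G) * y * (u : G)⁻¹ ∈ _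
      rw [hfixy u y hyc]
      exact ⟨hy, hyc⟩
  · rintro ⟨C, y⟩ hfix
    have hfC : ∀ u ∈ (P : Subgroup G), u ∈ normalizer (C : Set G) := by
      intro u hu
      have := congrArg Prod.fst (hfix ⟨u, hu⟩)
      exact (conj_smul_eq_iff u C).mp this
    have hfy : ∀ u ∈ (P : Subgroup G), u * y * u⁻¹ = y := by
      intro u hu
      exact congrArg Prod.snd (hfix ⟨u, hu⟩)
    constructor
    · rintro ⟨hC, hCa, hy, hCy⟩
      have hCa' : Nat.card C = p ^ s := hCa
      refine ⟨⟨?_, hC, hCa⟩, hy, ?_⟩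
      · have hCp : IsPGroup p C := IsPGroup.of_card hCa'
        have hsup : IsPGroup p ↥((P : Subgroup G) ⊔ C) :=
          IsPGroup.to_sup_of_normal_right' P.2 hCp hfC
        have h1 := P.is_maximal' hsup le_sup_left
        show C ≤ (P : Subgroup G)
        rw [← h1]
        exact le_sup_right
      · rw [mem_centralizer_iff]
        intro u hu
        have := hfy u hu
        rw [mul_inv_eq_iff_eq_mul] at this
        exact this
    · rintro ⟨⟨hCP, hC, hCa⟩, hy, hyc⟩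
      refine ⟨hC, hCa, hy, ?_⟩
      intro c hc
      exact (mem_centralizer_iff.mp hyc c (hCP hc))

end Cfsg.Agent.Lib.Helper95.EO
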