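import Mathlib
import Cfsg.Agent.Lib.Helper95.P1Q5

/-! S4003, piece M2 (helper95): counting the elements of order `p ^ s` of a group with a normal subgroup
`E` of order `p²` and exponent `p` whose translations do not change `p`-th powers. -/

set_option autoImplicit false
set_option linter.unusedSectionVars false

namespace Cfsg.Agent.Lib.Helper95.EO

open Subgroup Cfsg.Agent.Lib.Helper95.P1

theorem dvd_card_of_fiber {α β : Type*} [Finite α] [Finite β] (f : α → β) (n : ℕ)
    (h : ∀ b, n ∣ Nat.card {a // f a = b}) : n ∣ Nat.card α := by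
  classical
  have := Fintype.ofFinite β
  rw [← Nat.card_congr (Equiv.sigmaFiberEquiv f), Nat.card_sigma]
  exact Finset.dvd_sum fun b _ => h b

/-- a cyclic subgroup has `φ` generators (own copy of piece G). -/
theorem card_gen' {Q : Type*} [Group Q] [Finite Q] (x₀ : Q) :
    Nat.card {x : Q // zpowers x = zpowers x₀} = (orderOf x₀).totient := by
  classical
  have := Fintype.ofFinite ↥(zpowers x₀)
  have h1 := IsCyclic.card_orderOf_eq_totient (α := ↥(zpowers x₀)) (d := orderOf x₀)
    (by rw [← Nat.card_eq_fintype_card, Nat.card_zpowers])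
  rw [← h1, ← Fintype.card_subtype, ← Nat.card_eq_fintype_card]
  refine Nat.card_congr
    { toFun := fun x => ⟨⟨x.1, by
        have h2 := x.2
        have h3 := mem_zpowers x.1
        rw [h2] at h3
        exact h3⟩, by
        have h2 := x.2
        rw [Subgroup.orderOf_mk, ← Nat.card_zpowers, h2, Nat.card_zpowers]⟩
      invFun := fun a => ⟨a.1.1, by
        apply Subgroup.eq_of_le_of_card_ge (zpowers_le.mpr a.1.2)
        have h2 := a.2
        rw [← Subgroup.orderOf_coe] at h2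
        rw [Nat.card_zpowers, Nat.card_zpowers, h2]⟩
      left_inv := fun x => rfl
      right_inv := fun a => rfl }

variable {P : Type*} [Group P] [Finite P] {p : ℕ} [Fact p.Prime] (E : Subgroup P) [E.Normal]

theorem card_fiber_mk (q : P ⧸ E) : Nat.card {w : P // QuotientGroup.mk' E w = q} = Nat.card E := by
  obtain ⟨w₀, rfl⟩ := QuotientGroup.mk'_surjective E q
  refine Nat.card_congr
    { toFun := fun w => ⟨w₀⁻¹ * w.1, by
        have := w.2
        exact QuotientGroup.eq.mp this.symm⟩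
      invFun := fun e => ⟨w₀ * e.1, by
        have h1 : QuotientGroup.mk' E e.1 = 1 := (QuotientGroup.eq_one_iff (N := E) e.1).mpr e.2
        rw [map_mul, h1, mul_one]⟩
      left_inv := fun w => by apply Subtype.ext; simp
      right_inv := fun e => by apply Subtype.ext; simp }

variable {E}

theorem exists_eq_mul {x w : P}
    (h : QuotientGroup.mk' E x ∈ zpowers (QuotientGroup.mk' E w)) :
    ∃ e ∈ E, ∃ l : ℤ, x = e * w ^ l := by
  obtain ⟨l, hl⟩ := mem_zpowers_iff.mp h
  refine ⟨x * (w ^ l)⁻¹, ?_, l, by simp⟩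
  rw [← QuotientGroup.eq_one_iff, ← QuotientGroup.mk'_apply, map_mul, map_inv, map_zpow, hl]
  simp

theorem pow_pow_eq (hpow : ∀ x e : P, e ∈ E → (e * x) ^ p = x ^ p) {x w e : P} {l : ℤ}
    (he : e ∈ E) (h : x = e * w ^ l) (i : ℕ) : x ^ (p ^ (i + 1)) = (w ^ (p ^ (i + 1))) ^ l := by
  rw [pow_succ', pow_mul, h, hpow _ _ he, ← pow_mul, ← pow_succ', ← zpow_natCast, ← zpow_natCast,
    ← zpow_mul, ← zpow_mul, mul_comm]

theorem orderOf_eq_of_zpowers_eq (hpow : ∀ x e : P, e ∈ E → (e * x) ^ p = x ^ p) {s : ℕ}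
    (hs : 1 < s) {x w : P} (hx : orderOf x = p ^ s)
    (h : zpowers (QuotientGroup.mk' E w) = zpowers (QuotientGroup.mk' E x)) :
    orderOf w = p ^ s := by
  obtain ⟨t, rfl⟩ : ∃ t, s = t + 2 := ⟨s - 2, by omega⟩
  obtain ⟨e, he, l, hl⟩ := exists_eq_mul (E := E) (x := x) (w := w) (by rw [h]; exact mem_zpowers _)
  obtain ⟨e', he', l', hl'⟩ := exists_eq_mul (E := E) (x := w) (w := x)
    (by rw [← h]; exact mem_zpowers _)
  apply orderOf_eq_prime_pow
  · intro hcon
    have h1 := pow_pow_eq hpow he hl t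
    rw [hcon, one_zpow] at h1
    have h2 := orderOf_dvd_of_pow_eq_one h1
    rw [hx] at h2
    have h3 := (Nat.pow_dvd_pow_iff_le_right (Fact.out : p.Prime).one_lt).mp h2
    omega
  · have h1 := pow_pow_eq hpow he' hl' (t + 1)
    rw [h1, ← hx, pow_orderOf_eq_one, one_zpow]

theorem dvd_card_of_translate (hEp : ∀ a ∈ E, a ^ p = 1) (hE2 : Nat.card E = p ^ 2)
    (hpow : ∀ x e : P, e ∈ E → (e * x) ^ p = x ^ p) (s : ℕ) (hs : 1 < s) :
    p ^ s ∣ Nat.card {x : P // orderOf x = p ^ s} := by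
  have hpp : p.Prime := Fact.out
  refine dvd_card_of_fiber
    (fun x : {x : P // orderOf x = p ^ s} => zpowers (QuotientGroup.mk' E x.1)) _ ?_
  intro D
  by_cases hne : Nonempty {a : {x : P // orderOf x = p ^ s} // zpowers (QuotientGroup.mk' E a.1) = D}
  swap
  · rw [not_nonempty_iff] at hne
    rw [Nat.card_of_isEmpty]; exact dvd_zero _
  obtain ⟨⟨⟨x₀, hx₀⟩, hD⟩⟩ := hne
  have hD' : zpowers (QuotientGroup.mk' E x₀) = D := hD
  -- the fibre
  have e1 : {a : {x : P // orderOf x = p ^ s} // zpowers (QuotientGroup.mk' E a.1) = D} ≃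
      {w : P // zpowers (QuotientGroup.mk' E w) = D} :=
    { toFun := fun a => ⟨a.1.1, a.2⟩
      invFun := fun w => ⟨⟨w.1, orderOf_eq_of_zpowers_eq hpow hs hx₀ (w.2.trans hD'.symm)⟩, w.2⟩
      left_inv := fun a => rfl
      right_inv := fun w => rfl }
  have h2 : Nat.card {w : P // zpowers (QuotientGroup.mk' E w) = D} =
      Nat.card {q : P ⧸ E // zpowers q = D} * p ^ 2 := by
    refine card_eq_mul_of_fiber
      (fun w : {w : P // zpowers (QuotientGroup.mk' E w) = D} =>
        (⟨QuotientGroup.mk' E w.1, w.2⟩ : {q : P ⧸ E // zpowers q = D})) _ ?_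
    intro q
    rw [← hE2, ← card_fiber_mk E q.1]
    exact Nat.card_congr
      { toFun := fun a => ⟨a.1.1, congrArg Subtype.val a.2⟩
        invFun := fun w => ⟨⟨w.1, by rw [w.2]; exact q.2⟩, Subtype.ext w.2⟩
        left_inv := fun a => rfl
        right_inv := fun w => rfl }
  rw [Nat.card_congr e1, h2, ← hD', card_gen']
  -- the order of the image of x₀
  have hd : orderOf (QuotientGroup.mk' E x₀) ∣ p ^ s := by
    apply orderOf_dvd_of_pow_eq_one
    rw [← map_pow, ← hx₀, pow_orderOf_eq_one, map_one]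
  obtain ⟨j, hj, hdj⟩ := (Nat.dvd_prime_pow hpp).mp hd
  have hj' : s - 1 ≤ j := by
    by_contra hcon
    have h3 : (QuotientGroup.mk' E x₀) ^ (p ^ (s - 2)) = 1 := by
      apply orderOf_dvd_iff_pow_eq_one.mp
      rw [hdj]
      exact pow_dvd_pow p (by omega)
    rw [← map_pow] at h3
    have h4 : x₀ ^ (p ^ (s - 2)) ∈ E := (QuotientGroup.eq_one_iff _).mp h3
    have h5 := hEp _ h4
    rw [← pow_mul, ← pow_succ] at h5
    have h6 := orderOf_dvd_of_pow_eq_one h5
    rw [hx₀] at h6
    have h7 := (Nat.pow_dvd_pow_iff_le_right hpp.one_lt).mp h6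
    omega
  rw [hdj, Nat.totient_prime_pow hpp (by omega)]
  obtain ⟨r, hr⟩ : ∃ r, j - 1 = (s - 2) + r := ⟨j - 1 - (s - 2), by omega⟩
  have hs2 : p ^ s = p ^ (s - 2) * p ^ 2 := by
    rw [← pow_add]; congr 1; omega
  rw [hr, pow_add, hs2]
  exact ⟨p ^ r * (p - 1), by ring⟩

end Cfsg.Agent.Lib.Helper95.EO
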