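import Mathlib
import Cfsg.Agent.Lib.Helper95.P1Q5
import Cfsg.Agent.Lib.Helper95.EO.Defs
import Cfsg.Agent.Lib.Helper95.EO.M2

/-! S4003, pieces D G F1 F2 (helper95). -/

set_option autoImplicit false
set_option linter.unusedSectionVars false

namespace Cfsg.Agent.Lib.Helper95.EO

open Subgroup Cfsg.Agent.Lib.Helper95.P1

variable {G : Type*} [Group G] [Finite G]

/-- [D] decomposition of an element of order `a b`, `a`, `b` coprime. -/
theorem card_order_mul {a b : ℕ} (hab : a.Coprime b) :
    Nat.card {g : G // orderOf g = a * b} = Nat.card (XY G a b) := by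
  obtain ⟨u, v, huv⟩ := Nat.isCoprime_iff_coprime.mpr hab
  have key : ∀ g : G, orderOf g = a * b →
      orderOf (g ^ (v * b)) = a ∧ orderOf (g ^ (u * a)) = b := by
    intro g hg
    have hc : Commute (g ^ (v * b)) (g ^ (u * a)) := (Commute.refl g).zpow_zpow _ _
    have hxy : g ^ (v * b) * g ^ (u * a) = g := by
      rw [← zpow_add, add_comm, huv, zpow_one]
    have hgab : g ^ ((a : ℤ) * b) = 1 := by
      rw [← Nat.cast_mul, zpow_natCast, ← hg, pow_orderOf_eq_one]
    have hx : orderOf (g ^ (v * b)) ∣ a := by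
      apply orderOf_dvd_of_pow_eq_one
      rw [← zpow_natCast, ← zpow_mul]
      have : v * b * a = (a : ℤ) * b * v := by ring
      rw [this, zpow_mul, hgab, one_zpow]
    have hy : orderOf (g ^ (u * a)) ∣ b := by
      apply orderOf_dvd_of_pow_eq_one
      rw [← zpow_natCast, ← zpow_mul]
      have : u * a * b = (a : ℤ) * b * u := by ring
      rw [this, zpow_mul, hgab, one_zpow]
    have hcop : (orderOf (g ^ (v * b))).Coprime (orderOf (g ^ (u * a))) :=
      Nat.Coprime.coprime_dvd_left hx (Nat.Coprime.coprime_dvd_right hy hab)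
    have hmul := hc.orderOf_mul_eq_mul_orderOf_of_coprime hcop
    rw [hxy, hg] at hmul
    constructor
    · apply Nat.dvd_antisymm hx
      have h1 : a ∣ orderOf (g ^ (v * b)) * orderOf (g ^ (u * a)) := hmul ▸ Dvd.intro _ rfl
      exact (Nat.Coprime.coprime_dvd_right hy hab).dvd_of_dvd_mul_right h1
    · apply Nat.dvd_antisymm hy
      have h1 : b ∣ orderOf (g ^ (v * b)) * orderOf (g ^ (u * a)) := hmul ▸ Dvd.intro_left _ rfl
      exact (Nat.Coprime.coprime_dvd_right hx hab.symm).dvd_of_dvd_mul_left h1
  refine Nat.card_congr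
    { toFun := fun g => ⟨(g.1 ^ (v * b), g.1 ^ (u * a)), (key g.1 g.2).1, (key g.1 g.2).2,
        (Commute.refl g.1).zpow_zpow _ _⟩
      invFun := fun z => ⟨z.1.1 * z.1.2, by
        have hz := z.2
        rw [hz.2.2.orderOf_mul_eq_mul_orderOf_of_coprime (by rw [hz.1, hz.2.1]; exact hab), hz.1,
          hz.2.1]⟩
      left_inv := fun g => by
        apply Subtype.ext
        show g.1 ^ (v * b) * g.1 ^ (u * a) = g.1
        rw [← zpow_add, add_comm, huv, zpow_one]
      right_inv := fun z => by
        obtain ⟨⟨x, y⟩, hx, hy, hc⟩ := z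
        have hx' : orderOf x = a := hx
        have hy' : orderOf y = b := hy
        have hc' : Commute x y := hc
        have hxa : x ^ (a : ℤ) = 1 := by rw [zpow_natCast, ← hx', pow_orderOf_eq_one]
        have hyb : y ^ (b : ℤ) = 1 := by rw [zpow_natCast, ← hy', pow_orderOf_eq_one]
        apply Subtype.ext
        apply Prod.ext
        · show (x * y) ^ (v * b) = x
          rw [hc'.mul_zpow, mul_comm v, zpow_mul y, hyb, one_zpow, mul_one]
          have : (b : ℤ) * v = 1 - a * u := by linarith
          rw [this, zpow_sub, zpow_one, zpow_mul, hxa, one_zpow, inv_one, mul_one]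
        · show (x * y) ^ (u * a) = y
          rw [hc'.mul_zpow, mul_comm u, zpow_mul x, hxa, one_zpow, one_mul]
          have : (a : ℤ) * u = 1 - b * v := by linarith
          rw [this, zpow_sub, zpow_one, zpow_mul, hyb, one_zpow, inv_one, mul_one] }

/-- [G] a cyclic subgroup of order `a` has `φ(a)` generators. -/
theorem card_gen (C : Subgroup G) (hC : IsCyclic C) :
    Nat.card {x : G // zpowers x = C} = (Nat.card C).totient := by
  obtain ⟨g, hg⟩ := hC.exists_generator
  have h1 : zpowers (g : G) = C := by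
    apply le_antisymm (zpowers_le.mpr g.2)
    intro y hy
    obtain ⟨k, hk⟩ := mem_zpowers_iff.mp (hg ⟨y, hy⟩)
    rw [mem_zpowers_iff]
    exact ⟨k, by have := congrArg Subtype.val hk; simpa using this⟩
  have h2 := card_gen' (g : G)
  rw [h1, ← Nat.card_zpowers, h1] at h2
  exact h2

/-- [F1] -/
theorem card_XY (a b : ℕ) : Nat.card (XY G a b) = Nat.card (CY G a b) * a.totient := by
  refine card_eq_mul_of_fiber (fun z : XY G a b =>
    (⟨(zpowers z.1.1, z.1.2), inferInstance, by rw [Nat.card_zpowers]; exact z.2.1, z.2.2.1, by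
      intro c hc
      obtain ⟨k, rfl⟩ := mem_zpowers_iff.mp hc
      exact z.2.2.2.zpow_left k⟩ : CY G a b)) _ ?_
  rintro ⟨⟨C, y⟩, hC, hCa, hy, hCy⟩
  have hCa' : Nat.card C = a := hCa
  refine Eq.trans (Nat.card_congr (β := {x : G // zpowers x = C}) ?_)
    (by rw [card_gen C hC, hCa'])
  exact
    { toFun := fun z => ⟨z.1.1.1, congrArg (fun w : CY G a b => w.1.1) z.2⟩
      invFun := fun x => ⟨⟨(x.1, y), by
          have hx := x.2
          refine ⟨?_, hy, hCy x.1 ?_⟩
          · show orderOf x.1 = a
            rw [← Nat.card_zpowers, hx, hCa']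
          · have h3 := mem_zpowers x.1
            rw [hx] at h3
            exact h3⟩, Subtype.ext (Prod.ext x.2 rfl)⟩
      left_inv := fun z => by
        apply Subtype.ext
        apply Subtype.ext
        exact Prod.ext rfl (congrArg (fun w : CY G a b => w.1.2) z.2).symm
      right_inv := fun x => rfl }

/-- [F2] -/
theorem card_order_eq (Q : Subgroup G) (a : ℕ) :
    Nat.card {x : Q // orderOf x = a} = Nat.card (Cyc Q a) * a.totient := by
  refine card_eq_mul_of_fiber (fun x : {x : Q // orderOf x = a} =>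
    (⟨zpowers (x.1 : G), zpowers_le.mpr x.1.2, inferInstance, by
      rw [Nat.card_zpowers, Subgroup.orderOf_coe]; exact x.2⟩ : Cyc Q a)) _ ?_
  rintro ⟨C, hCQ, hC, hCa⟩
  refine Eq.trans (Nat.card_congr (β := {x : G // zpowers x = C}) ?_)
    (by rw [card_gen C hC, hCa])
  exact
    { toFun := fun z => ⟨z.1.1.1, congrArg (fun w : Cyc Q a => w.1) z.2⟩
      invFun := fun x => ⟨⟨⟨x.1, by
          have h3 := mem_zpowers x.1
          rw [x.2] at h3
          exact hCQ h3⟩, by
          rw [Subgroup.orderOf_mk, ← Nat.card_zpowers, x.2, hCa]⟩, Subtype.ext x.2⟩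
      left_inv := fun z => rfl
      right_inv := fun x => rfl }

end Cfsg.Agent.Lib.Helper95.EO
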