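import Mathlib
import Cfsg.Agent.Lib.Helper95.HHW2a
import Cfsg.Agent.Lib.Helper95.HHW2b

/-! S4003, piece M1 (helper95): translation by a normal elementary abelian subgroup of order `p²` of a
`p`-group, `p` odd, does not change `p`-th powers. -/

set_option autoImplicit false
set_option linter.unusedSectionVars false

namespace Cfsg.Agent.Lib.Helper95.EO

open Subgroup Module LinearMap Polynomial Cfsg.Agent.Lib.Helper95.HH

theorem norm_eq_zero_lin {p : ℕ} [Fact p.Prime] (hp : p ≠ 2) {V : Type*} [AddCommGroup V]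
    [Module (ZMod p) V] [Finite V] (hV : Nat.card V = p ^ 2) (T : Module.End (ZMod p) V) (N : ℕ)
    (hT : T ^ (p ^ N) = 1) (v : V) : ∑ i ∈ Finset.range p, (T ^ i) v = 0 := by
  have hpp : p.Prime := Fact.out
  have e2 := congrArg (Polynomial.aeval T) (poly_id2 p)
  have id1 : ((X : (ZMod p)[X]) - 1) ^ (p ^ N) = X ^ (p ^ N) - 1 := by
    rw [sub_pow_char_pow, one_pow]
  have e1 := congrArg (Polynomial.aeval T) id1
  simp only [map_pow, map_sub, aeval_X, map_one, map_sum] at e1 e2
  rw [hT, sub_self] at e1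
  have hfr : finrank (ZMod p) V = 2 := by
    have h3 := Module.natCard_eq_pow_finrank (K := ZMod p) (V := V)
    rw [hV, Nat.card_zmod] at h3
    exact (Nat.pow_right_injective hpp.two_le h3).symm
  have h2 := Module.End.ker_pow_le_ker_pow_finrank (T - 1) (p ^ N)
  rw [e1, hfr] at h2
  have h3 : ker (0 : Module.End (ZMod p) V) = ⊤ := LinearMap.ker_zero
  rw [h3, top_le_iff, LinearMap.ker_eq_top] at h2
  have hp3 : 3 ≤ p := by
    have := hpp.two_le
    omega
  obtain ⟨d, hd⟩ : ∃ d, p - 1 = 2 + d := ⟨p - 3, by omega⟩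
  rw [hd, pow_add, h2, zero_mul] at e2
  have h4 := congrArg (fun f : Module.End (ZMod p) V => f v) e2
  simp only [LinearMap.zero_apply, LinearMap.sum_apply] at h4
  exact h4.symm

theorem norm_eq_one' {A : Type*} [CommGroup A] [Finite A] {p : ℕ} [Fact p.Prime] (hp : p ≠ 2)
    [Module (ZMod p) (Additive A)] (hA2 : Nat.card A = p ^ 2) (τ : MulAut A) (N : ℕ)
    (hτ : τ ^ (p ^ N) = 1) (v : A) : ∏ i ∈ Finset.range p, (τ ^ i) v = 1 := by
  let T : Additive A →ₗ[ZMod p] Additive A :=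
    (MonoidHom.toAdditive τ.toMonoidHom).toZModLinearMap p
  have hT1 : ∀ a : A, T (Additive.ofMul a) = Additive.ofMul (τ a) := fun a => rfl
  have hT : ∀ (i : ℕ) (a : A), ((T : Module.End (ZMod p) (Additive A)) ^ i) (Additive.ofMul a)
      = Additive.ofMul ((τ ^ i) a) := by
    intro i
    induction i with
    | zero => intro a; rfl
    | succ i ih =>
      intro a
      rw [pow_succ', Module.End.mul_apply, ih, hT1, pow_succ']
      rfl
  have hTp : (T : Module.End (ZMod p) (Additive A)) ^ (p ^ N) = 1 := by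
    ext y
    have := hT (p ^ N) y.toMul
    rw [hτ] at this
    exact this
  have h1 := norm_eq_zero_lin hp (V := Additive A) hA2 T N hTp (Additive.ofMul v)
  simp only [hT] at h1
  rw [← ofMul_prod] at h1
  exact Additive.ofMul.injective h1

theorem norm_eq_one {A : Type*} [CommGroup A] [Finite A] {p : ℕ} [Fact p.Prime] (hp : p ≠ 2)
    (hA : ∀ a : A, a ^ p = 1) (hA2 : Nat.card A = p ^ 2) (τ : MulAut A) (N : ℕ)
    (hτ : τ ^ (p ^ N) = 1) (v : A) : ∏ i ∈ Finset.range p, (τ ^ i) v = 1 :=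
  have h0 : ∀ x : Additive A, p • x = 0 := fun x => congrArg Additive.ofMul (hA x.toMul)
  @norm_eq_one' A _ _ p _ hp (AddCommGroup.zmodModule h0) hA2 τ N hτ v

open scoped IsMulCommutative in
/-- [M1] translation by `E` does not change `p`-th powers (`p` odd, `|E| = p²`). -/
theorem mul_pow_eq {P : Type*} [Group P] [Finite P] {p : ℕ} [Fact p.Prime] (hp : p ≠ 2)
    (hP : IsPGroup p P) (E : Subgroup P) [E.Normal] (hEc : ∀ a ∈ E, ∀ b ∈ E, a * b = b * a)
    (hEp : ∀ a ∈ E, a ^ p = 1) (hE2 : Nat.card E = p ^ 2) (x e : P) (he : e ∈ E) :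
    (e * x) ^ p = x ^ p := by
  have : IsMulCommutative E := ⟨⟨fun a b => Subtype.ext (hEc a a.2 b b.2)⟩⟩
  obtain ⟨N, hN⟩ := hP x
  have hτ : (MulAut.conjNormal x : MulAut E) ^ (p ^ N) = 1 := by
    rw [← map_pow, hN, map_one]
  have h1 := mul_pow_formula E x ⟨e, he⟩ p
  rw [norm_eq_one hp (fun a => Subtype.ext (hEp a a.2)) hE2 _ N hτ ⟨e, he⟩] at h1
  simpa using h1

end Cfsg.Agent.Lib.Helper95.EO
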