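import Mathlib
import Cfsg.Agent.S0126
import Cfsg.Agent.Lib.Helper95.EO.Defs
import Cfsg.Agent.Lib.Helper95.EO.M1
import Cfsg.Agent.Lib.Helper95.EO.M2
import Cfsg.Agent.Lib.Helper95.EO.Count
import Cfsg.Agent.Lib.Helper95.EO.Act

/-! S4003 (helper95): assembly. -/

set_option autoImplicit false

namespace Cfsg.Agent.Lib.Helper95.EO

open Subgroup

/-- [M] Miller: in a noncyclic `p`-group, `p` odd, the number of elements of order `p ^ s`, `s ≥ 2`, is
divisible by `p ^ s`. -/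
theorem dvd_card_order_pgroup {P : Type*} [Group P] [Finite P] {p : ℕ} [Fact p.Prime] (hp : p ≠ 2)
    (hP : IsPGroup p P) (hnc : ¬ IsCyclic P) (s : ℕ) (hs : 1 < s) :
    p ^ s ∣ Nat.card {x : P // orderOf x = p ^ s} := by
  obtain ⟨E, hEn, ⟨hEc, hEp⟩, hE2⟩ := Cfsg.Agent.S0126.result hp hP hnc
  have hEc' : ∀ a ∈ E, ∀ b ∈ E, a * b = b * a := fun a ha b hb =>
    congrArg Subtype.val (hEc.is_comm.comm ⟨a, ha⟩ ⟨b, hb⟩)
  exact dvd_card_of_translate hEp hE2
    (fun x e he => mul_pow_eq hp hP E hEc' hEp hE2 x e he) s hs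

variable {G : Type*} [Group G] [Finite G]

theorem arith1 {p s N : ℕ} (hpp : p.Prime) (hs : 1 < s) (h : p ^ s ∣ N * (p ^ s).totient) :
    p ∣ N := by
  rw [Nat.totient_prime_pow hpp (by omega)] at h
  have hps : p ^ s = p ^ (s - 1) * p := by
    rw [← pow_succ]; congr 1; omega
  have hcop : Nat.Coprime p (p - 1) :=
    (Nat.coprime_self_sub_right hpp.one_le).mpr (Nat.coprime_one_right p)
  have h2 : p ^ (s - 1) * p ∣ p ^ (s - 1) * (N * (p - 1)) := by
    rw [← hps]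
    have : p ^ (s - 1) * (N * (p - 1)) = N * (p ^ (s - 1) * (p - 1)) := by ring
    rw [this]; exact h
  have h3 := Nat.dvd_of_mul_dvd_mul_left (pow_pos hpp.pos _) h2
  exact (hcop.dvd_mul_right).mp h3

theorem arith2 {p s N : ℕ} (hpp : p.Prime) (hs : 1 < s) (h : p ∣ N) :
    p ^ s ∣ N * (p ^ s).totient := by
  rw [Nat.totient_prime_pow hpp (by omega)]
  have hps : p ^ s = p ^ (s - 1) * p := by
    rw [← pow_succ]; congr 1; omega
  obtain ⟨c, rfl⟩ := h
  rw [hps]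
  exact ⟨c * (p - 1), by ring⟩

/-- assembly -/
theorem main (p : ℕ) [Fact p.Prime] (hodd : p ≠ 2)
    (P : Sylow p G) (hP : ¬ IsCyclic ↥(P : Subgroup G)) (s m : ℕ) (hs : 1 < s) (hm : Nat.Coprime p m) :
    p ^ s ∣ Nat.card {g : G // orderOf g = p ^ s * m} := by
  have hpp : p.Prime := Fact.out
  rw [card_order_mul (Nat.Coprime.pow_left s hm), card_XY]
  have h1 := dvd_card_order_pgroup hodd P.2 hP s hs
  rw [card_order_eq] at h1
  have h2 : p ∣ Nat.card (Cyc (P : Subgroup G) (p ^ s)) := arith1 hpp hs h1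
  have h3 : p ∣ Nat.card (CY G (p ^ s) m) := by
    have h4 := card_CY_modEq p P s m
    exact (Nat.modEq_zero_iff_dvd.mp (h4.trans (Nat.modEq_zero_iff_dvd.mpr (Dvd.dvd.mul_right h2 _))))
  exact arith2 hpp hs h3

end Cfsg.Agent.Lib.Helper95.EO
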